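import Groth.Agent.Ref1.Stalks
import Groth.Agent.Ref1.Generic
import Groth.Agent.QCohLib.Criterion
import Groth.Agent.QCohLib.Coherent

/-!
# The sheaf Hom of coherent modules is coherent
-/

universe u

open CategoryTheory AlgebraicGeometry TopologicalSpace Opposite

set_option backward.isDefEq.respectTransparency false

namespace Groth.Agent.RefHullLib

variable {X : Scheme.{u}} {F G : X.Modules}

/-- The value of a section of the sheaf Hom on a section. -/
noncomputable def applySec {V : X.Opens} (θ : Γ(RefHull.homSh F G, V)) (m : Γ(F, V)) : Γ(G, V) :=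
  (Ref1.exists_unique_section_of_isLocSect θ.1 θ.2 m).choose

theorem germ_applySec {V : X.Opens} (θ : Γ(RefHull.homSh F G, V)) (m : Γ(F, V)) (y : X) (hy : y ∈ V) :
    G.presheaf.germ V y hy (applySec θ m) = θ.1 ⟨y, hy⟩ (F.presheaf.germ V y hy m) :=
  (Ref1.exists_unique_section_of_isLocSect θ.1 θ.2 m).choose_spec.1 y hy

/-- The linear map on sections of a section of the sheaf Hom. -/
noncomputable def applyLin {V : X.Opens} (θ : Γ(RefHull.homSh F G, V)) : Γ(F, V) →ₗ[Γ(X, V)] Γ(G, V) where
  toFun := applySec θ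
  map_add' a b := QCohLib.section_ext _ _ fun y hy => by
    rw [map_add, germ_applySec, germ_applySec, germ_applySec, map_add, map_add]
  map_smul' r a := QCohLib.section_ext _ _ fun y hy => by
    rw [RingHom.id_apply, germ_applySec, QCohLib.germ_smul, QCohLib.germ_smul, germ_applySec, LinearMap.map_smul]

theorem applyLin_apply {V : X.Opens} (θ : Γ(RefHull.homSh F G, V)) (m : Γ(F, V)) : applyLin θ m = applySec θ m := rfl

/-- A section of the sheaf Hom is determined by its values on generators. -/
theorem ext_of_generators [F.IsQuasicoherent] {W : X.Opens} (hW : IsAffineOpen W) {V : X.Opens} (hVW : V ≤ W)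
    (S : Set Γ(F, W)) (hS : Submodule.span Γ(X, W) S = ⊤) (θ θ' : Γ(RefHull.homSh F G, V))
    (h : ∀ (y : X) (hy : y ∈ V), ∀ s ∈ S, θ.1 ⟨y, hy⟩ (F.presheaf.germ W y (hVW hy) s) =
      θ'.1 ⟨y, hy⟩ (F.presheaf.germ W y (hVW hy) s)) : θ = θ' := by
  refine Subtype.ext (funext fun ⟨y, hy⟩ => LinearMap.ext fun z => ?_)
  obtain ⟨a, s, hya, has⟩ := QCohLib.exists_smul_eq_germ hW y (hVW hy) z
  refine ((X.mem_basicOpen a y (hVW hy)).mp hya).smul_left_cancel.mp ?_
  rw [← LinearMap.map_smul, ← LinearMap.map_smul, has]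
  have hs : s ∈ Submodule.span Γ(X, W) S := by rw [hS]; trivial
  clear has
  induction hs using Submodule.span_induction with
  | mem s hs => exact h y hy s hs
  | zero => rw [map_zero, map_zero, map_zero]
  | add a b _ _ ha hb => rw [map_add, map_add, map_add, ha, hb]
  | smul c a _ ha => rw [QCohLib.germ_smul, LinearMap.map_smul, LinearMap.map_smul, ha]

theorem germ_smul_homSh {V : X.Opens} (r : Γ(X, V)) (θ : Γ(RefHull.homSh F G, V)) (y : X) (hy : y ∈ V) :
    (r • θ : Γ(RefHull.homSh F G, V)).1 ⟨y, hy⟩ = X.presheaf.germ V y hy r • θ.1 ⟨y, hy⟩ := rfl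

theorem res_homSh_apply {U V : X.Opens} (h : V ≤ U) (θ : Γ(RefHull.homSh F G, U)) (y : X) (hy : y ∈ V) :
    ((RefHull.homSh F G).presheaf.map (homOfLE h).op θ : Γ(RefHull.homSh F G, V)).1 ⟨y, hy⟩ = θ.1 ⟨y, h hy⟩ := rfl

theorem isQuasicoherent_homSh (hF : CohB1.IsFP F) [G.IsQuasicoherent] :
    (RefHull.homSh F G).IsQuasicoherent := by
  haveI : F.IsQuasicoherent := by
    haveI : CohB1.IsFP F := hF
    infer_instance
  refine QCohLib.isQuasicoherent_of_sections (fun U f x hx => ?_) (fun U f s => ?_)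
  · haveI := QCohLib.finitePresentation_sections (M := F) hF U.2
    obtain ⟨S, hS⟩ := (Module.Finite.fg_top : (⊤ : Submodule Γ(X, U.1) Γ(F, U.1)).FG)
    classical
    have H : ∀ m : Γ(F, U.1), ∃ n : ℕ, f ^ n • applyLin x m = 0 := fun m =>
      QCohLib.exists_pow_smul_eq_zero U.2 f (X.basicOpen f) (X.basicOpen_le f) rfl (applyLin x m)
        (QCohLib.section_ext _ _ fun y hy => by
          rw [TopCat.Presheaf.germ_res_apply, map_zero, applyLin_apply, germ_applySec]
          have h1 : ((RefHull.homSh F G).presheaf.map (homOfLE (X.basicOpen_le f)).op x : Γ(RefHull.homSh F G, _)).1 ⟨y, hy⟩ = 0 := by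
            rw [hx]; rfl
          rw [res_homSh_apply] at h1
          rw [h1, LinearMap.zero_apply])
    choose n hn using H
    refine ⟨S.sup n, ext_of_generators U.2 le_rfl (S : Set Γ(F, U.1)) hS _ _ fun y hy m hm => ?_⟩
    have h2 : f ^ (S.sup n) • applyLin x m = 0 := by
      rw [← Nat.sub_add_cancel (Finset.le_sup (f := n) hm), pow_add, mul_smul, hn m, smul_zero]
    have h3 := congrArg (G.presheaf.germ U.1 y hy) h2
    rw [QCohLib.germ_smul, map_zero, applyLin_apply, germ_applySec] at h3
    rw [germ_smul_homSh, LinearMap.smul_apply, h3]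
    exact (LinearMap.zero_apply _).symm
  · haveI := QCohLib.finitePresentation_sections (M := F) hF U.2
    letI := QCohLib.resModule G (X.basicOpen_le f)
    haveI := QCohLib.isLocalizedModule_res G U.2 f
    let ψ : Γ(F, U.1) →ₗ[Γ(X, U.1)] Γ(G, X.basicOpen f) :=
      { toFun := fun m => applyLin s (F.presheaf.map (homOfLE (X.basicOpen_le f)).op m)
        map_add' := fun a b => by rw [map_add, map_add]
        map_smul' := fun r a => by
          rw [RingHom.id_apply, Scheme.Modules.map_smul, map_smul]; rfl }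
    obtain ⟨χ, ⟨_, n, rfl⟩, hχ⟩ := Module.FinitePresentation.exists_lift_of_isLocalizedModule
      (Submonoid.powers f) (QCohLib.resLinearMap G (X.basicOpen_le f)) ψ
    obtain ⟨θ, hθ⟩ := Ref1.exists_section_of_linearMap U.2 le_rfl χ.toAddMonoidHom fun a m => by
      refine (χ.map_smul a m).trans ?_
      rw [show (homOfLE (le_refl U.1)).op = 𝟙 (op U.1) from rfl, CategoryTheory.Functor.map_id]
      rfl
    refine ⟨n, θ, ?_⟩
    obtain ⟨S, hS⟩ := (Module.Finite.fg_top : (⊤ : Submodule Γ(X, U.1) Γ(F, U.1)).FG)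
    refine ext_of_generators U.2 (X.basicOpen_le f) (S : Set Γ(F, U.1)) hS _ _ fun y hy m _ => ?_
    rw [res_homSh_apply, hθ y (X.basicOpen_le f hy) m]
    have h1 : G.presheaf.map (homOfLE (X.basicOpen_le f)).op (χ m) = f ^ n • ψ m := LinearMap.congr_fun hχ m
    have h2 := congrArg (G.presheaf.germ (X.basicOpen f) y hy) h1
    rw [TopCat.Presheaf.germ_res_apply] at h2
    refine h2.trans ?_
    change G.presheaf.germ _ y hy (X.presheaf.map (homOfLE (X.basicOpen_le f)).op (f ^ n) •
      applyLin s (F.presheaf.map (homOfLE (X.basicOpen_le f)).op m)) = _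
    rw [QCohLib.germ_smul, applyLin_apply, germ_applySec, TopCat.Presheaf.germ_res_apply F.presheaf,
      germ_smul_homSh, LinearMap.smul_apply, map_pow]

theorem isCoh_homSh [IsLocallyNoetherian X] (hF : Coh.IsCoh F) (hG : Coh.IsCoh G) :
    Coh.IsCoh (RefHull.homSh F G) := by
  have hFp := QCohLib.isCoh_iff_isFP.mp hF
  haveI := hF.1
  haveI := hG.1
  haveI := isQuasicoherent_homSh (G := G) hFp
  refine QCohLib.isCoh_iff.mpr ⟨‹_›, fun U => ?_⟩
  haveI : IsNoetherianRing Γ(X, U.1) := IsLocallyNoetherian.component_noetherian U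
  haveI : Module.Finite Γ(X, U.1) Γ(F, U.1) := (QCohLib.isCoh_iff.mp hF).2 U
  haveI : Module.Finite Γ(X, U.1) Γ(G, U.1) := (QCohLib.isCoh_iff.mp hG).2 U
  let Φ : Γ(RefHull.homSh F G, U.1) →ₗ[Γ(X, U.1)] (Γ(F, U.1) →ₗ[Γ(X, U.1)] Γ(G, U.1)) :=
    { toFun := applyLin
      map_add' := fun a b => LinearMap.ext fun m => QCohLib.section_ext _ _ fun y hy => by
        rw [applyLin_apply, germ_applySec, LinearMap.add_apply, map_add, applyLin_apply, applyLin_apply,
          germ_applySec, germ_applySec]
        rfl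
      map_smul' := fun r a => LinearMap.ext fun m => QCohLib.section_ext _ _ fun y hy => by
        rw [applyLin_apply, germ_applySec, RingHom.id_apply, LinearMap.smul_apply, QCohLib.germ_smul,
          applyLin_apply, germ_applySec, germ_smul_homSh, LinearMap.smul_apply] }
  refine Module.Finite.of_injective Φ fun a b hab => ext_of_generators U.2 le_rfl Set.univ
    Submodule.span_univ a b fun y hy m _ => ?_
  rw [← germ_applySec a m y hy, ← germ_applySec b m y hy, ← applyLin_apply, ← applyLin_apply,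
    show applyLin a = applyLin b from hab]

end Groth.Agent.RefHullLib
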