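import Groth.Agent.RefHullLib.HomSh
import Groth.Agent.DepthLib.Reflexive
import Groth.Agent.DepthSections.ReflexiveLemmas
import Groth.Agent.DepthSections.Apps
import Groth.Agent.S7393

/-!
# Reflexive sheaves and reflexive stalks
-/

universe u

open CategoryTheory AlgebraicGeometry TopologicalSpace

set_option backward.isDefEq.respectTransparency false

namespace Groth.Agent.RefHullLib

/-- Reflexivity with values in a free module of rank one. -/
theorem bijective_applyₗ_iff {R : Type*} [CommRing R] {M : Type*} [AddCommGroup M] [Module R M]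
    {L : Type*} [AddCommGroup L] [Module R L] (E : R ≃ₗ[R] L) :
    Function.Bijective (LinearMap.applyₗ : M →ₗ[R] (M →ₗ[R] L) →ₗ[R] L) ↔ Module.IsReflexive R M := by
  let Φ : Module.Dual R (Module.Dual R M) ≃ₗ[R] ((M →ₗ[R] L) →ₗ[R] L) :=
    ((LinearEquiv.congrRight E : Module.Dual R M ≃ₗ[R] (M →ₗ[R] L))).arrowCongr E
  have h : ∀ m, (LinearMap.applyₗ : M →ₗ[R] (M →ₗ[R] L) →ₗ[R] L) m = Φ (Module.Dual.eval R M m) := fun m =>
    LinearMap.ext fun φ => by
      simp only [Φ, LinearEquiv.arrowCongr_apply, LinearMap.applyₗ_apply_apply, Module.Dual.eval_apply]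
      exact (E.apply_symm_apply (φ m)).symm
  have hf : ⇑(LinearMap.applyₗ : M →ₗ[R] (M →ₗ[R] L) →ₗ[R] L) = Φ ∘ Module.Dual.eval R M := funext h
  rw [hf, Function.Bijective.of_comp_iff' Φ.bijective]
  exact ⟨fun hb => ⟨hb⟩, fun hr => hr.bijective_dual_eval'⟩

variable {X : Scheme.{u}} (F : X.Modules)

/-- The stalk of the structure module is free on the germ of `1`. -/
noncomputable def unitEquiv (x : X) : X.presheaf.stalk x ≃ₗ[X.presheaf.stalk x] (Coh.structureModule X).presheaf.stalk x :=
  LinearEquiv.ofBijective (LinearMap.toSpanSingleton _ _ (Ref1.one x)) (Ref1.unit_stalk_bijective x)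

theorem evalStalk_stalkHom_bidualMap (x : X) (v : F.presheaf.stalk x) :
    RefHull.evalStalk (RefHull.dual F) (Coh.structureModule X) x (QCohLib.stalkHom (RefHull.bidualMap F) x v) =
      RefHull.bidualAt F x v := by
  obtain ⟨U, hx, s, rfl⟩ := F.presheaf.exists_germ_eq v
  rw [QCohLib.stalkHom_germ, RefHull.evalStalk_germ, RefHull.bidualMap_app_apply]

theorem bijective_bidualAt_iff [IsLocallyNoetherian X] (hF : Coh.IsCoh F) (x : X) :
    Function.Bijective (RefHull.bidualAt F x) ↔ RefHull.IsReflexiveAt F x := by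
  let e := LinearEquiv.ofBijective _
    (Ref1.evalStalk_bijective F (Coh.structureModule X) (QCohLib.isCoh_iff_isFP.mp hF) x)
  have hb : ⇑(RefHull.bidualAt F x) =
      (e.arrowCongr (LinearEquiv.refl _ ((Coh.structureModule X).presheaf.stalk x))).symm ∘
        (LinearMap.applyₗ : F.presheaf.stalk x →ₗ[X.presheaf.stalk x] _ →ₗ[X.presheaf.stalk x] _) :=
    funext fun v => LinearMap.ext fun θ => rfl
  rw [hb, Function.Bijective.of_comp_iff' (LinearEquiv.bijective _)]
  exact bijective_applyₗ_iff (unitEquiv x)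

theorem isReflexive_iff [IsLocallyNoetherian X] (hF : Coh.IsCoh F) :
    RefHull.IsReflexive F ↔ ∀ x : X, RefHull.IsReflexiveAt F x := by
  have hS : Coh.IsCoh (Coh.structureModule X) := DepthSections.isCoh_structureModule
  have hD := QCohLib.isCoh_iff_isFP.mp (isCoh_homSh hF hS)
  rw [RefHull.IsReflexive, QCohLib.isIso_iff_stalk_bijective]
  refine forall_congr' fun x => ?_
  rw [← bijective_bidualAt_iff F hF x]
  have hb : ⇑(RefHull.bidualAt F x) = RefHull.evalStalk (RefHull.dual F) (Coh.structureModule X) x ∘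
      QCohLib.stalkHom (RefHull.bidualMap F) x := funext fun v => (evalStalk_stalkHom_bidualMap F x v).symm
  rw [hb, Function.Bijective.of_comp_iff' (Ref1.evalStalk_bijective _ _ hD x)]

theorem isReflexiveAt_of_specializes [IsLocallyNoetherian X] (hF : Coh.IsCoh F) {x c : X} (h : x ⤳ c)
    (hc : RefHull.IsReflexiveAt F c) : RefHull.IsReflexiveAt F x := by
  haveI := hF.1
  obtain ⟨_, ⟨W, hW, rfl⟩, hcW, -⟩ :=
    X.isBasis_affineOpens.exists_subset_of_mem_open (Set.mem_univ c) isOpen_univ
  have hxW : x ∈ W := h.mem_open W.2 hcW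
  haveI : IsNoetherianRing Γ(X, W) := IsLocallyNoetherian.component_noetherian ⟨W, hW⟩
  haveI : Module.Finite Γ(X, W) Γ(F, W) := (QCohLib.isCoh_iff.mp hF).2 ⟨W, hW⟩
  have key : ∀ (z : X) (hz : z ∈ W), RefHull.IsReflexiveAt F z ↔
      Module.IsReflexive (Localization.AtPrime (hW.primeIdealOf ⟨z, hz⟩).asIdeal)
        (LocalizedModule (hW.primeIdealOf ⟨z, hz⟩).asIdeal.primeCompl Γ(F, W)) := fun z hz => by
    letI := TopCat.Presheaf.algebra_section_stalk X.presheaf ⟨z, hz⟩
    haveI := hW.isLocalization_stalk ⟨z, hz⟩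
    letI := QCohLib.germModule F z hz
    haveI := QCohLib.isLocalizedModule_germ (M := F) hW z hz
    haveI : IsScalarTower Γ(X, W) (X.presheaf.stalk z) (F.presheaf.stalk z) :=
      IsScalarTower.of_algebraMap_smul fun _ _ => rfl
    exact DepthSections.isReflexive_isLocalizedModule_iff (hW.primeIdealOf ⟨z, hz⟩).asIdeal
      (X.presheaf.stalk z) (QCohLib.germLinearMap F z hz)
  rw [key x hxW]
  rw [key c hcW] at hc
  set q := (hW.primeIdealOf ⟨c, hcW⟩).asIdeal
  set p := (hW.primeIdealOf ⟨x, hxW⟩).asIdeal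
  have hpq : p ≤ q := by
    have h1 := hW.fromSpec_primeIdealOf ⟨x, hxW⟩
    have h2 := hW.fromSpec_primeIdealOf ⟨c, hcW⟩
    exact (PrimeSpectrum.le_iff_specializes _ _).mpr (hW.fromSpec.isEmbedding.toIsInducing.specializes_iff.mp
      ((h1.symm ▸ h2.symm ▸ h : _ ⤳ _)))
  let Bq := Localization.AtPrime q
  let Mq := LocalizedModule q.primeCompl Γ(F, W)
  haveI : Module.Finite Bq Mq := Module.Finite.of_isLocalizedModule q.primeCompl (LocalizedModule.mkLinearMap q.primeCompl Γ(F, W))
  have hd : Disjoint (q.primeCompl : Set Γ(X, W)) p := Set.disjoint_left.mpr fun a ha hap => ha (hpq hap)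
  let Q := p.map (algebraMap Γ(X, W) Bq)
  haveI : Q.IsPrime := IsLocalization.isPrime_of_isPrime_disjoint q.primeCompl Bq p inferInstance hd
  have hQ : Q.comap (algebraMap Γ(X, W) Bq) = p :=
    IsLocalization.comap_map_of_isPrime_disjoint q.primeCompl Bq inferInstance hd
  haveI : Module.IsReflexive Bq Mq := hc
  have hr := DepthLib.isReflexive_localization (R := Bq) (M := Mq) Q
  let N := LocalizedModule Q.primeCompl Mq
  haveI : IsScalarTower Γ(X, W) (Localization.AtPrime Q) N := .of_algebraMap_smul fun r z => by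
    rw [IsScalarTower.algebraMap_apply Γ(X, W) Bq (Localization.AtPrime Q), algebraMap_smul, algebraMap_smul]
  let g : Γ(F, W) →ₗ[Γ(X, W)] N := ((LocalizedModule.mkLinearMap Q.primeCompl Mq).restrictScalars Γ(X, W)).comp
    (LocalizedModule.mkLinearMap q.primeCompl Γ(F, W))
  have hb : IsBaseChange (Localization.AtPrime Q) g :=
    IsBaseChange.comp (LocalizedModule.isBaseChange q.primeCompl Γ(F, W)) (LocalizedModule.isBaseChange Q.primeCompl _)
  haveI : IsLocalization.AtPrime (Localization.AtPrime Q) p := by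
    have := IsLocalization.isLocalization_isLocalization_atPrime_isLocalization q.primeCompl (Localization.AtPrime Q) Q
    simpa only [hQ] using this
  haveI : IsLocalizedModule p.primeCompl g :=
    (isLocalizedModule_iff_isBaseChange p.primeCompl (Localization.AtPrime Q) g).mpr hb
  exact (DepthSections.isReflexive_isLocalizedModule_iff p (Localization.AtPrime Q) g).mp hr

end Groth.Agent.RefHullLib
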